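import Cfsg.Agent.H52.ProjDeg
import Cfsg.Agent.Char.ExtThm

/-! Degree ratio divides the index: invariant case. -/

set_option autoImplicit false

open Cfsg Cfsg.Agent.CharBase Cfsg.Agent.Char
open scoped ComplexConjugate

namespace Cfsg.Agent.H52

universe u

theorem finrank_iSup_le_sum {W : Type*} [AddCommGroup W] [Module ℂ W] [FiniteDimensional ℂ W]
    {ι : Type*} [Fintype ι] (f : ι → Submodule ℂ W) :
    Module.finrank ℂ (⨆ i, f i : Submodule ℂ W) ≤ ∑ i, Module.finrank ℂ (f i) := by
  classical
  have key : ∀ s : Finset ι, Module.finrank ℂ (s.sup f : Submodule ℂ W) ≤ ∑ i ∈ s, Module.finrank ℂ (f i) := by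
    intro s
    induction s using Finset.induction_on with
    | empty => simp
    | insert a s ha ih =>
      rw [Finset.sup_insert, Finset.sum_insert ha]
      exact (Submodule.finrank_add_le_finrank_add_finrank _ _).trans (Nat.add_le_add_left ih _)
  have h := key Finset.univ
  rwa [Finset.sup_univ_eq_iSup] at h

theorem eq_top_of_iSup_range {U V W : Type*} [AddCommGroup U] [Module ℂ U] [FiniteDimensional ℂ U]
    [AddCommGroup V] [Module ℂ V] [FiniteDimensional ℂ V] [AddCommGroup W] [Module ℂ W] [FiniteDimensional ℂ W]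
    (j : U →ₗ[ℂ] V →ₗ[ℂ] W) (hdim : Module.finrank ℂ W = Module.finrank ℂ U * Module.finrank ℂ V)
    (hV : 0 < Module.finrank ℂ V) (S : Submodule ℂ U) (h : (⨆ u : S, LinearMap.range (j u)) = ⊤) : S = ⊤ := by
  apply Submodule.eq_top_of_finrank_eq
  apply le_antisymm (Submodule.finrank_le S)
  let b := Module.finBasis ℂ S
  have h4 : (⨆ u : S, LinearMap.range (j u)) ≤ ⨆ i, LinearMap.range (j (b i : S)) := by
    apply iSup_le
    intro u
    rintro _ ⟨v, rfl⟩
    have h5 : (u : U) = ∑ i, b.repr u i • ((b i : S) : U) := by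
      have h5 := congrArg S.subtype (b.sum_repr u).symm
      rw [map_sum] at h5
      simpa using h5
    have h6 : j (u : U) v = ∑ i, b.repr u i • (j ((b i : S) : U) v) := by
      conv_lhs => rw [h5]
      rw [map_sum]
      simp
    rw [h6]
    apply Submodule.sum_mem
    intro i _
    apply Submodule.smul_mem
    exact (le_iSup (fun i => LinearMap.range (j ((b i : S) : U))) i) ⟨v, rfl⟩
  rw [h, top_le_iff] at h4
  have h5 : Module.finrank ℂ W ≤ Module.finrank ℂ S * Module.finrank ℂ V := by
    rw [← finrank_top ℂ W, ← h4]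
    refine (finrank_iSup_le_sum _).trans ?_
    calc ∑ i, Module.finrank ℂ (LinearMap.range (j ((b i : S) : U))) ≤ ∑ i : Fin (Module.finrank ℂ S), Module.finrank ℂ V := by
          apply Finset.sum_le_sum
          intro i _
          exact LinearMap.finrank_range_le _
      _ = Module.finrank ℂ S * Module.finrank ℂ V := by simp
  rw [hdim] at h5
  exact Nat.le_of_mul_le_mul_right h5 hV

theorem degree_ratio_invariant {G : Type u} [Group G] [Fintype G] (N : Subgroup G) [hN : N.Normal] [Fintype N]
    {χ : G → ℂ} (hχ : IsIrrCharacter G χ) {θ : N → ℂ} (hθ : IsIrrCharacter N θ)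
    (hne : classInner (fun n : N => χ n) θ ≠ 0) (hinv : ∀ g : G, cj N g θ = θ) :
    ∃ e : ℕ, e ∣ N.index ∧ χ 1 = e * θ 1 ∧ classInner (fun n : N => χ n) θ = e := by
  obtain ⟨n, ρ, hρ, rfl⟩ := hθ
  obtain ⟨m, σ, hσ, rfl⟩ := hχ
  obtain ⟨T, hT⟩ := exists_twist N ρ hρ hinv
  obtain ⟨α, hα⟩ := hT.exists_factor hρ
  let U := ρ.IntertwiningMap (resRep N σ)
  -- the dimension of U
  have hfin : classInner (fun n : N => σ.character n) ρ.character = (Module.finrank ℂ U : ℂ) := by
    letI : Invertible (Nat.card N : ℂ) :=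
      invertibleOfNonzero (by exact_mod_cast Nat.card_pos.ne')
    have h2 := Representation.card_inv_mul_sum_char_mul_char_eq_finrank ρ (resRep N σ)
    rw [← h2]
    unfold classInner
    congr 1
    refine Finset.sum_congr rfl fun g _ => ?_
    rw [rep_character_inv]
    rfl
  have hdim : σ.character 1 = (Module.finrank ℂ U : ℂ) * ρ.character 1 := by
    have h3 := restrict_eq_smul_of_invariant N ⟨m, σ, hσ, rfl⟩ ⟨n, ρ, hρ, rfl⟩ hne hinv
    have h4 := congrFun h3 1
    rw [hfin] at h4
    exact h4
  refine ⟨Module.finrank ℂ U, ?_, hdim, hfin⟩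
  have hUfd : FiniteDimensional ℂ U := inferInstance
  have hUnt : Nontrivial U := by
    rw [← Module.finrank_pos_iff (R := ℂ)]
    apply Nat.pos_of_ne_zero
    intro h
    apply hne
    rw [hfin, h, Nat.cast_zero]
  have hdimN : m = Module.finrank ℂ U * n := by
    rw [Representation.char_one, Representation.char_one] at hdim
    simp only [Module.finrank_fin_fun] at hdim
    exact_mod_cast hdim
  apply finrank_dvd_index_of_proj N (twistQ σ hT) (fun g h => (α g h)⁻¹) (fun g h => twistQ_mul σ hT hα g h)
  · intro n hn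
    exact twistQ_of_mem σ hT ⟨n, hn⟩
  · intro W hW
    -- the image of W ⊗ V
    let W₁ : Submodule ℂ (Fin m → ℂ) := ⨆ u : W, LinearMap.range (u : U).toLinearMap
    have hW₁ : ∀ g, ∀ x ∈ W₁, σ g x ∈ W₁ := by
      intro g x hx
      induction hx using Submodule.iSup_induction' with
      | mem u x hx =>
        obtain ⟨v, rfl⟩ := hx
        have h2 : σ g ((u : U).toLinearMap v) = (twistQ σ hT g (u : U)).toLinearMap ((T g : Module.End ℂ (Fin n → ℂ)) v) := by
          rw [twistQ_toLinearMap]
          change _ = σ g ((u : U).toLinearMap ((((T g)⁻¹ : (Module.End ℂ (Fin n → ℂ))ˣ).val * (T g : Module.End ℂ (Fin n → ℂ))) v))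
          rw [Units.inv_mul]
          rfl
        rw [h2]
        exact (le_iSup (fun u : W => LinearMap.range (u : U).toLinearMap) ⟨_, hW g u u.2⟩) ⟨_, rfl⟩
      | zero => rw [map_zero]; exact W₁.zero_mem
      | add x y _ _ hx hy => rw [map_add]; exact W₁.add_mem hx hy
    have hcase : W₁ = ⊥ ∨ W₁ = ⊤ := by
      let S : Subrepresentation σ := ⟨W₁, fun g x hx => hW₁ g x hx⟩
      have hso : IsSimpleOrder (Subrepresentation σ) := hσ
      rcases hso.eq_bot_or_eq_top S with h | h
      · left; exact congrArg Subrepresentation.toSubmodule h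
      · right; exact congrArg Subrepresentation.toSubmodule h
    rcases hcase with h | h
    · left
      rw [eq_bot_iff]
      intro u hu
      rw [Submodule.mem_bot]
      apply Representation.IntertwiningMap.ext
      have h3 : LinearMap.range u.toLinearMap ≤ (⊥ : Submodule ℂ (Fin m → ℂ)) := by
        rw [← h]
        exact le_iSup (fun u : W => LinearMap.range (u : U).toLinearMap) ⟨u, hu⟩
      rw [le_bot_iff, LinearMap.range_eq_bot] at h3
      rw [h3]; rfl
    · right
      have hn : 0 < n := by
        apply Nat.pos_of_ne_zero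
        intro h0
        have := irr_one_ne_zero (⟨n, ρ, hρ, rfl⟩ : IsIrrCharacter N ρ.character)
        rw [Representation.char_one] at this
        apply this
        simp [h0]
      exact eq_top_of_iSup_range (Representation.IntertwiningMap.toLinearMapl ρ (resRep N σ))
        (by simpa using hdimN) (by simpa using hn) W h

end Cfsg.Agent.H52
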