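import Cfsg.Agent.BS.Conseq
import Cfsg.Agent.H23.BendNum
import Mathlib

/-! A simple group with a strongly embedded subgroup has no primitive action of degree `3p` with
`|N(P)| = 2p`. -/

set_option autoImplicit false

namespace Cfsg.Agent.H52.NoSE

open Subgroup Cfsg.Agent.BS Cfsg.Agent.H23.Bend

universe u v

/-- orders of the Bender groups -/
theorem card_of_inList {K : Type*} [Group K] [Finite K] [IsSimpleGroup K] (h : InList K) :
    (∃ q r M k : ℕ, q = 2 ^ k ∧ q = r + 1 ∧ Odd M ∧ Nat.card K = q * M ∧ M = r * (q + 1)) ∨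
    (∃ q M k : ℕ, q = 2 ^ k ∧ Odd M ∧ Nat.card K = q ^ 2 * M) ∨
    (∃ q M k : ℕ, q = 2 ^ k ∧ 4 ≤ q ∧ Odd M ∧ Nat.card K = q ^ 3 * M) := by
  rcases h with ⟨F, i1, i2, n, hn, hF, ⟨e⟩⟩ | ⟨F, i1, i2, m, hm, hc, ⟨e⟩⟩ | ⟨F, i1, i2, n, hn, hF, ⟨e⟩⟩
  · left
    rw [Nat.card_congr e.toEquiv]
    set q := 2 ^ n with hq
    have hq2 : 2 ≤ q := by
      calc 2 = 2 ^ 1 := rfl
        _ ≤ q := Nat.pow_le_pow_right (by norm_num) (by omega)
    have he : Even q := Nat.even_pow.2 ⟨even_two, by omega⟩
    have h1 := Cfsg.Agent.S0243.result (F := F) hF 2 le_rfl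
    have hg : Nat.gcd 2 (q - 1) = 1 := by
      apply Nat.Coprime.gcd_eq_one
      apply Nat.coprime_two_left.2
      obtain ⟨k, hk⟩ := he
      exact ⟨k - 1, by omega⟩
    rw [hg, one_mul, Fin.prod_univ_two] at h1
    simp only [Fin.val_zero, pow_zero, Fin.val_one, pow_one] at h1
    obtain ⟨r, hr⟩ : ∃ r, q = r + 1 := ⟨q - 1, by omega⟩
    have hr1 : 0 < r := by omega
    have h2 : Nat.card (Matrix.ProjectiveSpecialLinearGroup (Fin 2) F) = q * (r * (q + 1)) := by
      have h3 : q ^ 2 - 1 = r * (q + 1) := by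
        rw [hr]
        have : (r + 1) ^ 2 = r * (r + 1 + 1) + 1 := by ring
        omega
      have h4 : q ^ 2 - q = r * q := by
        rw [hr]
        have : (r + 1) ^ 2 = r * (r + 1) + (r + 1) := by ring
        omega
      have h5 : q - 1 = r := by omega
      rw [h3, h4, h5] at h1
      apply Nat.eq_of_mul_eq_mul_left hr1
      rw [h1]; ring
    refine ⟨q, r, r * (q + 1), n, rfl, hr, ?_, h2, rfl⟩
    obtain ⟨k, hk⟩ := he
    rw [Nat.odd_mul]
    exact ⟨⟨k - 1, by omega⟩, ⟨k, by omega⟩⟩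
  · right; left
    have hsz : Cfsg.IsSuzuki K := RK.isSuzuki_of_iso ⟨F, i1, i2, m, hm, hc, ⟨e⟩⟩
    obtain ⟨-, m, hm, hc⟩ := hsz
    set q := 2 ^ (2 * m + 1) with hq
    have hq2 : 2 ≤ q := by
      calc 2 = 2 ^ 1 := rfl
        _ ≤ q := Nat.pow_le_pow_right (by norm_num) (by omega)
    have he : Even q := Nat.even_pow.2 ⟨even_two, by omega⟩
    obtain ⟨r, hr⟩ : ∃ r, q = r + 1 := ⟨q - 1, by omega⟩
    have h5 : q - 1 = r := by omega
    rw [h5] at hc
    refine ⟨q, (q ^ 2 + 1) * r, 2 * m + 1, rfl, ?_, by rw [hc]; ring⟩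
    rw [Nat.odd_mul]
    obtain ⟨k, hk⟩ := he
    refine ⟨?_, ⟨k - 1, by omega⟩⟩
    exact (Nat.even_pow.2 ⟨⟨k, hk⟩, two_ne_zero⟩).add_one
  · right; right
    rw [Nat.card_congr e.toEquiv]
    set q := 2 ^ n with hq
    have hq4 : 4 ≤ q := four_le_two_pow hn
    have he : Even q := Nat.even_pow.2 ⟨even_two, by omega⟩
    have h1 := Cfsg.Agent.S0280.result (F := F) hF 3 (by norm_num)
    simp only [Finset.prod_range_succ, Finset.prod_range_zero, one_mul] at h1
    norm_num at h1
    obtain ⟨r, hr⟩ : ∃ r, q ^ 2 = r + 1 := ⟨q ^ 2 - 1, by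
      have : 1 ≤ q ^ 2 := Nat.one_le_pow _ _ (by omega)
      omega⟩
    have hr5 : q ^ 2 - 1 = r := by omega
    set d := Nat.gcd 3 (q + 1) with hd
    have hdodd : Odd d := by
      have : d ∣ 3 := Nat.gcd_dvd_left _ _
      rcases (Nat.dvd_prime Nat.prime_three).1 this with h | h
      · rw [h]; decide
      · rw [h]; decide
    set N := Nat.card (Cfsg.PSU 3 F q) with hN
    have h2 : d * N = q ^ 3 * (r * (q ^ 3 + 1)) := by
      have hq1 : 0 < q + 1 := by omega
      apply Nat.eq_of_mul_eq_mul_left hq1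
      rw [hr5] at h1
      calc (q + 1) * (d * N) = d * ((q + 1) * N) := by ring
        _ = _ := by
          rw [h1]; ring
    have hcop : Nat.Coprime (q ^ 3) d := by
      rw [hq, ← pow_mul]
      exact Nat.Coprime.pow_left _ (Nat.coprime_two_left.2 hdodd)
    obtain ⟨M, hM⟩ : q ^ 3 ∣ N := hcop.dvd_of_dvd_mul_left ⟨_, h2⟩
    have h3 : d * M = r * (q ^ 3 + 1) := by
      have hpos : 0 < q ^ 3 := by positivity
      apply Nat.eq_of_mul_eq_mul_left hpos
      rw [← h2, hM]; ring
    refine ⟨q, M, n, rfl, hq4, ?_, hM⟩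
    have h4 : Odd (r * (q ^ 3 + 1)) := by
      rw [Nat.odd_mul]
      refine ⟨?_, (Nat.even_pow.2 ⟨he, by norm_num⟩).add_one⟩
      have h5 : Even (q ^ 2) := Nat.even_pow.2 ⟨he, two_ne_zero⟩
      rw [hr] at h5
      exact (Nat.even_add_one.1 h5 |> Nat.not_even_iff_odd.1)
    rw [← h3] at h4
    exact (Nat.odd_mul.1 h4).2

theorem card_sylow_two {G : Type*} [Group G] [Finite G] (S : Sylow 2 G) {s M k : ℕ} (hk : s = 2 ^ k)
    (hM : Odd M) (hc : Nat.card G = s * M) : Nat.card S = s := by
  have := Fact.mk Nat.prime_two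
  have hM0 : M ≠ 0 := by rintro rfl; exact absurd hM (by decide)
  rw [S.card_eq_multiplicity, hc, hk, Nat.factorization_mul (by positivity) hM0,
    Nat.prime_two.factorization_pow]
  have : M.factorization 2 = 0 := Nat.factorization_eq_zero_of_not_dvd (by
    intro h; exact (Nat.not_even_iff_odd.2 hM) (even_iff_two_dvd.2 h))
  simp [this]

section

open scoped Pointwise

variable {G : Type u} [Group G] [Finite G]

/-- a maximal subgroup of odd index of a simple group with a strongly embedded subgroup `N(S₀)` of index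
`|S₀| + 1` has index `|S₀| + 1` -/
theorem index_of_maximal [IsSimpleGroup G] {M : Subgroup G} (hM : Cfsg.IsStronglyEmbedded M) (S₀ : Sylow 2 G)
    (hMS : M = normalizer ((S₀ : Subgroup G) : Set G)) (hidx : M.index = Nat.card S₀ + 1)
    {H : Subgroup G} (hH : IsCoatom H) (hodd : Odd H.index) : H.index = Nat.card S₀ + 1 := by
  have := Fact.mk Nat.prime_two
  -- trivial intersections
  have hTI0 : ∀ (S₂ : Sylow 2 G), S₂ ≠ S₀ → (S₀ : Subgroup G) ⊓ (S₂ : Subgroup G) = ⊥ := by
    intro S₂ hne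
    obtain ⟨g, hg⟩ := MulAction.exists_smul_eq G S₀ S₂
    have hgM : g ∉ M := by
      intro h
      apply hne
      rw [hMS] at h
      rw [← hg]
      exact Sylow.smul_eq_iff_mem_normalizer.2 h
    have h1 := hM.2.2 g hgM
    have h2 : (S₀ : Subgroup G) ⊓ (S₂ : Subgroup G) ≤ M ⊓ M.map (MulAut.conj g).toMonoidHom := by
      apply inf_le_inf
      · rw [hMS]; exact le_normalizer
      · rw [← hg, Sylow.coe_subgroup_smul, hMS]
        exact Subgroup.map_mono le_normalizer
    have h3 : Odd (Nat.card ((S₀ : Subgroup G) ⊓ (S₂ : Subgroup G) : Subgroup G)) :=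
      h1.of_dvd_nat (Subgroup.card_dvd_of_le h2)
    have h4 : IsPGroup 2 ((S₀ : Subgroup G) ⊓ (S₂ : Subgroup G) : Subgroup G) :=
      S₀.isPGroup'.to_le inf_le_left
    rcases h4.card_eq_or_dvd with h | h
    · exact Subgroup.card_eq_one.1 h
    · exact absurd (even_iff_two_dvd.2 h) (Nat.not_even_iff_odd.2 h3)
  have hTI : ∀ (S₁ S₂ : Sylow 2 G), S₁ ≠ S₂ → (S₁ : Subgroup G) ⊓ (S₂ : Subgroup G) = ⊥ := by
    intro S₁ S₂ hne
    obtain ⟨g, hg⟩ := MulAction.exists_smul_eq G S₁ S₀
    have h1 : g • S₂ ≠ S₀ := by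
      intro h
      apply hne
      rw [← hg] at h
      exact (MulAction.injective g h).symm
    have h2 := hTI0 _ h1
    rw [← hg, Sylow.coe_subgroup_smul, Sylow.coe_subgroup_smul] at h2
    rw [eq_bot_iff]
    rintro x ⟨hx1, hx2⟩
    have h3 : g * x * g⁻¹ ∈ (MulAut.conj g • (S₁ : Subgroup G)) ⊓ (MulAut.conj g • (S₂ : Subgroup G)) :=
      ⟨⟨x, hx1, rfl⟩, ⟨x, hx2, rfl⟩⟩
    rw [h2, Subgroup.mem_bot, mul_inv_eq_one] at h3
    have : x = 1 := by
      have := congrArg (fun y => g⁻¹ * y) h3
      simpa using this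
    rw [this]; exact one_mem _
  -- all Sylow subgroups are conjugate under `S₁` except `S₁`
  have hcS : ∀ S : Sylow 2 G, Nat.card S = Nat.card S₀ := by
    intro S
    rw [S.card_eq_multiplicity, S₀.card_eq_multiplicity]
  have hnum : Nat.card (Sylow 2 G) = Nat.card S₀ + 1 := by
    have h := S₀.card_eq_index_normalizer
    have h' : Nat.card (Sylow 2 G) = (normalizer ((S₀ : Subgroup G) : Set G)).index := h
    rw [h', ← hMS, hidx]
  have hall : ∀ (S₁ S₂ Q : Sylow 2 G), S₁ ≠ S₂ → Q ≠ S₁ → ∃ s ∈ (S₁ : Subgroup G), s • S₂ = Q := by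
    intro S₁ S₂ Q hne hQ
    classical
    -- stabilizers in `S₁`
    have hst : ∀ (R : Sylow 2 G), R ≠ S₁ → ∀ s ∈ (S₁ : Subgroup G), s • R = R → s = 1 := by
      intro R hR s hs hsR
      have h1 : s ∈ normalizer ((R : Subgroup G) : Set G) := Sylow.smul_eq_iff_mem_normalizer.1 hsR
      have h2 : s ∈ (R : Subgroup G) := by
        have h3 : IsPGroup 2 (Subgroup.zpowers s) := S₁.isPGroup'.to_le (by
          rw [Subgroup.zpowers_le]; exact hs)
        have h4 : Subgroup.zpowers s ≤ normalizer ((R : Subgroup G) : Set G) := by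
          rw [Subgroup.zpowers_le]; exact h1
        have h5 : Subgroup.zpowers s ⊓ normalizer ((R : Subgroup G) : Set G) =
            Subgroup.zpowers s ⊓ (R : Subgroup G) := (h3.inf_normalizer_sylow R)
        have h6 : s ∈ Subgroup.zpowers s ⊓ normalizer ((R : Subgroup G) : Set G) :=
          ⟨Subgroup.mem_zpowers s, h1⟩
        rw [h5] at h6
        exact h6.2
      have h7 : s ∈ (S₁ : Subgroup G) ⊓ (R : Subgroup G) := ⟨hs, h2⟩
      rw [hTI S₁ R (Ne.symm hR), Subgroup.mem_bot] at h7
      exact h7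
    let f : Option S₁ → Sylow 2 G := fun o => match o with
      | none => S₁
      | some s => (s : G) • S₂
    have hS1fix : ∀ s ∈ (S₁ : Subgroup G), s • S₁ = S₁ := by
      intro s hs
      exact Sylow.smul_eq_iff_mem_normalizer.2 (le_normalizer hs)
    have hne' : ∀ s ∈ (S₁ : Subgroup G), s • S₂ ≠ S₁ := by
      intro s hs h
      apply hne
      rw [← hS1fix s hs] at h
      exact (MulAction.injective s h).symm
    have hinj : Function.Injective f := by
      rintro (_ | s) (_ | t) hst'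
      · rfl
      · exact absurd hst'.symm (hne' t t.2)
      · exact absurd hst' (hne' s s.2)
      · have h1 : (s : G) • S₂ = (t : G) • S₂ := hst'
        have h2 : ((t : G)⁻¹ * s) • S₂ = S₂ := by
          rw [mul_smul, h1, inv_smul_smul]
        have h3 := hst S₂ (Ne.symm hne) _ (mul_mem (inv_mem t.2) s.2) h2
        rw [inv_mul_eq_one] at h3
        exact congrArg some (Subtype.ext h3.symm)
    have hbij := (Nat.bijective_iff_injective_and_card f).2 ⟨hinj, by
      rw [hnum, ← hcS S₁, Finite.card_option]⟩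
    obtain ⟨o, ho⟩ := hbij.2 Q
    rcases o with _ | s
    · exact absurd ho.symm hQ
    · exact ⟨s, s.2, ho⟩
  -- `H` contains a Sylow 2-subgroup
  obtain ⟨S₁, hS₁⟩ : ∃ S₁ : Sylow 2 G, (S₁ : Subgroup G) ≤ H := by
    obtain ⟨T⟩ : Nonempty (Sylow 2 H) := inferInstance
    have hTG : IsPGroup 2 ((T : Subgroup H).map H.subtype) := T.isPGroup'.map _
    obtain ⟨Q, hQ⟩ := hTG.exists_le_sylow
    refine ⟨Q, ?_⟩
    have h1 : ((T : Subgroup H).map H.subtype) = (Q : Subgroup G) := by
      apply Subgroup.eq_of_le_of_card_ge hQ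
      rw [Subgroup.card_map_of_injective H.subtype_injective]
      have h2 : Nat.card Q = 2 ^ (Nat.card G).factorization 2 := Q.card_eq_multiplicity
      have h3 : Nat.card T = 2 ^ (Nat.card H).factorization 2 := T.card_eq_multiplicity
      have h4 : (Nat.card G).factorization 2 = (Nat.card H).factorization 2 := by
        rw [← H.card_mul_index, Nat.factorization_mul Nat.card_pos.ne' H.index_ne_zero_of_finite,
          Finsupp.add_apply]
        rw [Nat.factorization_eq_zero_of_not_dvd (n := H.index) (by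
          intro h; exact (Nat.not_even_iff_odd.2 hodd) (even_iff_two_dvd.2 h)), add_zero]
      change Nat.card Q ≤ Nat.card T
      rw [h2, h3, h4]
    rw [← h1]
    rintro _ ⟨x, -, rfl⟩
    exact x.2
  have huniq : ∀ S₂ : Sylow 2 G, (S₂ : Subgroup G) ≤ H → S₂ = S₁ := by
    intro S₂ hS₂
    by_contra hne
    -- every Sylow 2-subgroup is in `H`
    have hevery : ∀ Q : Sylow 2 G, (Q : Subgroup G) ≤ H := by
      intro Q
      by_cases hQ : Q = S₁
      · rw [hQ]; exact hS₁
      · obtain ⟨s, hs, hsQ⟩ := hall S₁ S₂ Q (Ne.symm hne) hQ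
        rw [← hsQ, Sylow.coe_subgroup_smul]
        rintro _ ⟨x, hx, rfl⟩
        exact mul_mem (mul_mem (hS₁ hs) (hS₂ hx)) (inv_mem (hS₁ hs))
    let K : Subgroup G := ⨆ Q : Sylow 2 G, (Q : Subgroup G)
    have hK : K.Normal := by
      constructor
      intro x hx g
      have h1 : ∀ y ∈ K, g * y * g⁻¹ ∈ K := by
        have : K ≤ K.comap (MulAut.conj g).toMonoidHom := by
          apply iSup_le
          intro Q y hy
          rw [Subgroup.mem_comap]
          have h2 : (((g • Q : Sylow 2 G)) : Subgroup G) ≤ K := le_iSup (fun Q : Sylow 2 G => (Q : Subgroup G)) (g • Q)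
          apply h2
          rw [Sylow.coe_subgroup_smul]
          exact ⟨y, hy, rfl⟩
        intro y hy
        exact this hy
      exact h1 x hx
    have hKH : K ≤ H := iSup_le hevery
    rcases hK.eq_bot_or_eq_top with h | h
    · have h1 : (S₀ : Subgroup G) = ⊥ := by
        rw [eq_bot_iff, ← h]
        exact le_iSup (fun Q : Sylow 2 G => (Q : Subgroup G)) S₀
      have h2 : M = ⊤ := by
        rw [hMS, h1, Subgroup.normalizer_eq_top_iff]
        infer_instance
      exact hM.1 h2
    · exact hH.1 (top_le_iff.1 (h ▸ hKH))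
  have hHN : H ≤ normalizer ((S₁ : Subgroup G) : Set G) := by
    intro h hh
    refine Sylow.smul_eq_iff_mem_normalizer.1 ?_
    apply huniq
    rw [Sylow.coe_subgroup_smul]
    rintro _ ⟨x, hx, rfl⟩
    exact mul_mem (mul_mem hh (hS₁ hx)) (inv_mem hh)
  have hNi : (normalizer ((S₁ : Subgroup G) : Set G)).index = Nat.card S₀ + 1 := by
    have h : Nat.card (Sylow 2 G) = (normalizer ((S₁ : Subgroup G) : Set G)).index :=
      S₁.card_eq_index_normalizer
    rw [← h, hnum]
  have hne : normalizer ((S₁ : Subgroup G) : Set G) ≠ ⊤ := by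
    intro h
    rw [h, Subgroup.index_top] at hNi
    have : 0 < Nat.card S₀ := Nat.card_pos
    omega
  rcases hHN.eq_or_lt with h | h
  · rw [h, hNi]
  · exact absurd (hH.2 _ h) hne

end

theorem no_se {G : Type u} [Group G] [Finite G] [IsSimpleGroup G] (hna : ∃ a b : G, a * b ≠ b * a)
    {Om : Type v} [Fintype Om] [MulAction G Om] [MulAction.IsPreprimitive G Om] {p : ℕ} (hp : p.Prime)
    (hp3 : 3 < p) (hOm : Fintype.card Om = 3 * p) (P : Sylow p G)
    (hN : Nat.card (Subgroup.normalizer ((P : Subgroup G) : Set G)) = 2 * p) {M : Subgroup G}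
    (hM : Cfsg.IsStronglyEmbedded M) : False := by
  have := Fact.mk Nat.prime_two
  have hpF := Fact.mk hp
  have hL : InList G := bender hna hM
  obtain ⟨S₀, hMS⟩ := exists_eq_normalizer hna hM
  have hidx := index_of_num hM (num_of_inList hL) S₀
  -- point stabilizer
  have hOm1 : 1 < Fintype.card Om := by rw [hOm]; omega
  have hnt : Nontrivial Om := Fintype.one_lt_card_iff_nontrivial.1 hOm1
  obtain ⟨a⟩ : Nonempty Om := inferInstance
  have hcoat : IsCoatom (MulAction.stabilizer G a) :=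
    MulAction.isCoatom_stabilizer_iff_preprimitive G a |>.2 inferInstance
  have hHidx : (MulAction.stabilizer G a).index = 3 * p := by
    rw [MulAction.index_stabilizer_of_transitive, Nat.card_eq_fintype_card, hOm]
  have hpodd : Odd p := hp.odd_of_ne_two (by omega)
  have h3p : 3 * p = Nat.card S₀ + 1 := by
    rw [← hHidx]
    exact index_of_maximal hM S₀ hMS hidx hcoat (by rw [hHidx]; exact Nat.odd_mul.2 ⟨by decide, hpodd⟩)
  rcases card_of_inList hL with ⟨q, r, M', k, hq, hr, hodd, hc, hM'⟩ | ⟨q, M', k, hq, hodd, hc⟩ |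
      ⟨q, M', k, hq, hq4, hodd, hc⟩
  · have hS := card_sylow_two S₀ hq hodd hc
    rw [hS] at h3p
    have h1 := (Subgroup.normalizer ((P : Subgroup G) : Set G)).card_mul_index
    rw [hN, hc, hM'] at h1
    have h2 := card_sylow_modEq_one p G
    rw [P.card_eq_index_normalizer] at h2
    set n := (Subgroup.normalizer ((P : Subgroup G) : Set G)).index with hn
    have h3 : 2 * n = 3 * (q * r) := by
      apply Nat.eq_of_mul_eq_mul_left hp.pos
      calc p * (2 * n) = 2 * p * n := by ring
        _ = q * (r * (q + 1)) := h1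
        _ = p * (3 * (q * r)) := by rw [← h3p]; ring
    have h4 : (p : ℤ) ∣ 4 := by
      have h5 : (p : ℤ) ∣ (n : ℤ) - 1 := by
        have := (Nat.modEq_iff_dvd.1 h2.symm)
        rwa [Nat.cast_one] at this
      have h6 : (4 : ℤ) = 2 * ((n : ℤ) - 1) - p * (27 * p - 27) := by
        have e1 : (q : ℤ) = 3 * p - 1 := by have : (3 * p : ℤ) = q + 1 := by exact_mod_cast h3p
                                            linarith
        have e2 : (r : ℤ) = q - 1 := by have : (q : ℤ) = r + 1 := by exact_mod_cast hr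
                                        linarith
        have e3 : (2 * n : ℤ) = 3 * (q * r) := by exact_mod_cast h3
        rw [e2, e1] at e3
        linear_combination -e3
      rw [h6]
      exact dvd_sub (h5.mul_left _) (dvd_mul_right _ _)
    have h5 : p ∣ 4 := by exact_mod_cast h4
    have h6 := Nat.le_of_dvd (by norm_num) h5
    have : p = 4 := by omega
    rw [this] at hp
    exact absurd hp (by norm_num)
  · have hS := card_sylow_two S₀ (s := q ^ 2) (k := k * 2) (by rw [hq, pow_mul]) hodd hc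
    rw [hS] at h3p
    have h1 : q ^ 2 % 3 = 1 := by
      have : q % 3 = 1 ∨ q % 3 = 2 := by
        have h3 : ¬ 3 ∣ q := by
          rw [hq]
          intro h
          have := Nat.prime_three.dvd_of_dvd_pow h
          omega
        omega
      rcases this with h | h <;> simp [Nat.pow_mod, h]
    omega
  · have hS := card_sylow_two S₀ (s := q ^ 3) (k := k * 3) (by rw [hq, pow_mul]) hodd hc
    rw [hS] at h3p
    obtain ⟨t, ht⟩ : ∃ t, q = t + 1 := ⟨q - 1, by omega⟩
    have hfac : 3 * p = (q + 1) * (t * q + 1) := by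
      rw [h3p, ht]; ring
    rcases (hp.dvd_mul.1 (Dvd.intro_left 3 hfac) : p ∣ q + 1 ∨ p ∣ t * q + 1) with h | h
    · obtain ⟨c, hc⟩ := h
      have : 3 = c * (t * q + 1) := by
        apply Nat.eq_of_mul_eq_mul_left hp.pos
        rw [mul_comm p 3, hfac, hc]; ring
      have h0 : c ≠ 0 := by rintro rfl; omega
      have : t * q + 1 ≤ 3 := by
        rw [this]; exact Nat.le_mul_of_pos_left _ (Nat.pos_of_ne_zero h0)
      nlinarith
    · obtain ⟨c, hc⟩ := h
      have : 3 = c * (q + 1) := by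
        apply Nat.eq_of_mul_eq_mul_left hp.pos
        rw [mul_comm p 3, hfac, hc]; ring
      have h0 : c ≠ 0 := by rintro rfl; omega
      have : q + 1 ≤ 3 := by
        rw [this]; exact Nat.le_mul_of_pos_left _ (Nat.pos_of_ne_zero h0)
      omega

end Cfsg.Agent.H52.NoSE
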