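import Mathlib

/-! Small general lemmas on subgroups. -/

set_option autoImplicit false

namespace Cfsg.Agent.H52

theorem mem_normalizer_of_conj_mem {G : Type*} [Group G] (H : Subgroup G) [Finite H] {g : G}
    (h : ∀ x ∈ H, g * x * g⁻¹ ∈ H) : g ∈ Subgroup.normalizer (H : Set G) := by
  have hle : H.map (MulAut.conj g).toMonoidHom ≤ H := by
    rintro _ ⟨x, hx, rfl⟩
    exact h x hx
  have heq : H.map (MulAut.conj g).toMonoidHom = H := by
    apply Subgroup.eq_of_le_of_card_ge hle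
    exact (Subgroup.card_map_of_injective (MulAut.conj g).injective).ge
  rw [Subgroup.mem_normalizer_iff]
  intro x
  refine ⟨h x, fun hx => ?_⟩
  rw [← heq] at hx
  obtain ⟨y, hy, hyx⟩ := hx
  have : y = x := by
    simp only [MulEquiv.coe_toMonoidHom, MulAut.conj_apply] at hyx
    exact mul_left_cancel (mul_right_cancel hyx)
  rw [← this]; exact hy

/-- If `M = A B` with `A ∩ B = 1` then `|M| = |A| |B|`. -/
theorem card_eq_mul_of_factor {G : Type*} [Group G] (M A B : Subgroup G) (hA : A ≤ M) (hB : B ≤ M)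
    (hdis : A ⊓ B = ⊥) (h : ∀ m ∈ M, ∃ a ∈ A, ∃ b ∈ B, m = a * b) :
    Nat.card M = Nat.card A * Nat.card B := by
  have hc : Subgroup.IsComplement' (A.subgroupOf M) (B.subgroupOf M) := by
    apply Subgroup.isComplement'_of_disjoint_and_mul_eq_univ
    · rw [disjoint_iff, eq_bot_iff]
      rintro ⟨x, hx⟩ ⟨h1, h2⟩
      have : x ∈ A ⊓ B := ⟨h1, h2⟩
      rw [hdis, Subgroup.mem_bot] at this
      exact Subtype.ext this
    · rw [Set.eq_univ_iff_forall]
      rintro ⟨x, hx⟩
      obtain ⟨a, ha, b, hb, hab⟩ := h x hx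
      exact ⟨⟨a, hA ha⟩, ha, ⟨b, hB hb⟩, hb, Subtype.ext hab.symm⟩
  have := hc.card_mul_card
  rw [Nat.card_congr (Subgroup.subgroupOfEquivOfLe hA).toEquiv,
    Nat.card_congr (Subgroup.subgroupOfEquivOfLe hB).toEquiv] at this
  exact this.symm

/-- Dedekind's modular law, `P` normal. -/
theorem normal_sup_inf_of_le {G : Type*} [Group G] (P A M : Subgroup G) [P.Normal] (hPM : P ≤ M) :
    (P ⊔ A) ⊓ M = P ⊔ (A ⊓ M) := by
  apply le_antisymm
  · rintro x ⟨hx, hxM⟩
    have hx' : x ∈ P ⊔ A := hx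
    rw [← SetLike.mem_coe, Subgroup.normal_mul] at hx'
    obtain ⟨u, hu, v, hv, rfl⟩ := hx'
    have hvM : v ∈ M := by
      have : v = u⁻¹ * (u * v) := by group
      rw [this]
      exact M.mul_mem (M.inv_mem (hPM hu)) hxM
    exact Subgroup.mul_mem _ ((le_sup_left : P ≤ _) hu) ((le_sup_right : A ⊓ M ≤ _) ⟨hv, hvM⟩)
  · exact sup_le (le_inf le_sup_left hPM) (inf_le_inf_right M le_sup_right)

end Cfsg.Agent.H52
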