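import Cfsg.Agent.S0179
import Cfsg.Agent.Char.Extension
import Cfsg.Agent.Char.Correspondence

/-! The degree of an irreducible projective representation divides the order of the group. -/

set_option autoImplicit false

open Cfsg

namespace Cfsg.Agent.H52

universe u v

section Proj

variable {G : Type u} [Group G] {U : Type v} [AddCommGroup U] [Module ℂ U]

/-- The determinant one operators proportional to some `Q g`. -/
def projGroup [FiniteDimensional ℂ U] (Q : G → Module.End ℂ U) (c : G → G → ℂˣ)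
    (hQ : ∀ g h, Q g * Q h = (c g h : ℂ) • Q (g * h)) (h1 : Q 1 = 1) : Subgroup (Module.End ℂ U)ˣ where
  carrier := {A | LinearMap.det (A : Module.End ℂ U) = 1 ∧ ∃ (g : G) (d : ℂˣ), (A : Module.End ℂ U) = (d : ℂ) • Q g}
  one_mem' := ⟨by simp, 1, 1, by simp [h1]⟩
  mul_mem' := by
    rintro A B ⟨hA, g, d, hd⟩ ⟨hB, h, e, he⟩
    refine ⟨by rw [Units.val_mul, map_mul, hA, hB, one_mul], g * h, d * e * c g h, ?_⟩
    rw [Units.val_mul, hd, he, smul_mul_smul_comm, hQ, smul_smul, Units.val_mul, Units.val_mul]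
  inv_mem' := by
    rintro A ⟨hA, g, d, hd⟩
    refine ⟨?_, g⁻¹, (d * c g g⁻¹)⁻¹, ?_⟩
    · have h2 : LinearMap.det ((A * A⁻¹ : (Module.End ℂ U)ˣ) : Module.End ℂ U) = 1 := by simp
      rw [Units.val_mul, map_mul, hA, one_mul] at h2
      exact h2
    · apply (Units.inv_eq_of_mul_eq_one_right (u := A) ?_)
      rw [hd, smul_mul_smul_comm, hQ, smul_smul, mul_inv_cancel, h1]
      have : (d : ℂ) * (((d * c g g⁻¹)⁻¹ : ℂˣ) : ℂ) * (c g g⁻¹ : ℂ) = 1 := by
        rw [← Units.val_mul, ← Units.val_mul]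
        have : d * (d * c g g⁻¹)⁻¹ * c g g⁻¹ = 1 := by
          rw [mul_inv]
          rw [← mul_assoc, mul_inv_cancel, one_mul, inv_mul_cancel]
        rw [this, Units.val_one]
      rw [this, one_smul]

theorem projGroup_finite [Finite G] [FiniteDimensional ℂ U] [Nontrivial U] (Q : G → Module.End ℂ U) (c : G → G → ℂˣ)
    (hQ : ∀ g h, Q g * Q h = (c g h : ℂ) • Q (g * h)) (h1 : Q 1 = 1) :
    Finite (projGroup Q c hQ h1) := by
  classical
  have he : Module.finrank ℂ U ≠ 0 := Module.finrank_pos.ne'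
  have hfin : ∀ g : G, ({A : (Module.End ℂ U)ˣ | ∃ d : ℂˣ, LinearMap.det (A : Module.End ℂ U) = 1 ∧ (A : Module.End ℂ U) = (d : ℂ) • Q g}).Finite := by
    intro g
    have hroots : ({d : ℂ | d ^ (Module.finrank ℂ U) * LinearMap.det (Q g) = 1}).Finite := by
      by_cases h0 : LinearMap.det (Q g) = 0
      · have : {d : ℂ | d ^ (Module.finrank ℂ U) * LinearMap.det (Q g) = 1} = ∅ := by
          ext d; simp [h0]
        rw [this]; exact Set.finite_empty
      · apply Set.Finite.subset (Polynomial.nthRoots (Module.finrank ℂ U) (LinearMap.det (Q g))⁻¹).toFinset.finite_toSet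
        intro d hd
        rw [Finset.mem_coe, Multiset.mem_toFinset, Polynomial.mem_nthRoots (Nat.pos_of_ne_zero he)]
        exact eq_inv_of_mul_eq_one_left hd
    have himg : ((fun d : ℂ => d • Q g) '' {d : ℂ | d ^ (Module.finrank ℂ U) * LinearMap.det (Q g) = 1}).Finite :=
      hroots.image _
    apply Set.Finite.of_finite_image (f := fun A : (Module.End ℂ U)ˣ => (A : Module.End ℂ U))
    · apply himg.subset
      rintro _ ⟨A, ⟨d, hA, hd⟩, rfl⟩
      refine ⟨d, ?_, hd.symm⟩
      change (d : ℂ) ^ _ * _ = 1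
      rw [hd, LinearMap.det_smul] at hA
      exact hA
    · intro A _ B _ h
      exact Units.ext h
  have : ((projGroup Q c hQ h1 : Subgroup (Module.End ℂ U)ˣ) : Set (Module.End ℂ U)ˣ).Finite := by
    apply (Set.finite_iUnion hfin).subset
    rintro A ⟨hA, g, d, hd⟩
    exact Set.mem_iUnion.mpr ⟨g, d, hA, hd⟩
  exact this.to_subtype

/-- Degree of an irreducible projective representation trivial on `N`. -/
theorem finrank_dvd_index_of_proj [Finite G] [FiniteDimensional ℂ U] [Nontrivial U] (N : Subgroup G) [N.Normal]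
    (Q : G → Module.End ℂ U) (c : G → G → ℂˣ)
    (hQ : ∀ g h, Q g * Q h = (c g h : ℂ) • Q (g * h)) (hN : ∀ n ∈ N, Q n = 1)
    (hirr : ∀ W : Submodule ℂ U, (∀ g, ∀ w ∈ W, Q g w ∈ W) → W = ⊥ ∨ W = ⊤) :
    Module.finrank ℂ U ∣ N.index := by
  classical
  have h1 : Q 1 = 1 := hN 1 N.one_mem
  have he : Module.finrank ℂ U ≠ 0 := Module.finrank_pos.ne'
  let Γ := projGroup Q c hQ h1
  have hΓ : Finite Γ := projGroup_finite Q c hQ h1
  -- determinants
  have hdet : ∀ g, LinearMap.det (Q g) ≠ 0 := by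
    intro g h0
    have h2 := congrArg LinearMap.det (hQ g g⁻¹)
    rw [map_mul, h0, zero_mul, mul_inv_cancel, h1, LinearMap.det_smul, map_one, mul_one] at h2
    exact pow_ne_zero _ (Units.ne_zero _) h2.symm
  have hroot : ∀ g, ∃ d : ℂ, d ^ (Module.finrank ℂ U) = (LinearMap.det (Q g))⁻¹ := fun g =>
    IsAlgClosed.exists_pow_nat_eq _ (Nat.pos_of_ne_zero he)
  choose d hd using hroot
  have hd0 : ∀ g, d g ≠ 0 := by
    intro g h
    have h2 := hd g
    rw [h, zero_pow he] at h2
    exact inv_ne_zero (hdet g) h2.symm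
  have hunit : ∀ g, IsUnit (d g • Q g) := by
    intro g
    have h2 : IsUnit (LinearMap.det (d g • Q g)) := by
      rw [LinearMap.det_smul, hd, inv_mul_cancel₀ (hdet g)]; exact isUnit_one
    exact (LinearMap.isUnit_iff_isUnit_det _).mpr h2
  let r : G → Γ := fun g => ⟨(hunit g).unit, by
    refine ⟨?_, g, Units.mk0 (d g) (hd0 g), ?_⟩
    · rw [IsUnit.unit_spec, LinearMap.det_smul, hd, inv_mul_cancel₀ (hdet g)]
    · rw [IsUnit.unit_spec, Units.val_mk0]⟩
  have hr : ∀ g, ((r g : (Module.End ℂ U)ˣ) : Module.End ℂ U) = d g • Q g := fun g => (hunit g).unit_spec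
  -- scalars are central
  have hscal : ∀ (A : Γ) (z : ℂ), ((A : (Module.End ℂ U)ˣ) : Module.End ℂ U) = z • (1 : Module.End ℂ U) →
      A ∈ Subgroup.center Γ := by
    intro A z hA
    rw [Subgroup.mem_center_iff]
    intro B
    apply Subtype.ext
    apply Units.ext
    rw [Subgroup.coe_mul, Subgroup.coe_mul, Units.val_mul, Units.val_mul, hA]
    rw [mul_smul_comm, smul_mul_assoc, mul_one, one_mul]
  have key : ∀ (A B : Γ) (z : ℂ), ((A : (Module.End ℂ U)ˣ) : Module.End ℂ U) = z • ((B : (Module.End ℂ U)ˣ) : Module.End ℂ U) →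
      (QuotientGroup.mk A : Γ ⧸ Subgroup.center Γ) = QuotientGroup.mk B := by
    intro A B z hAB
    rw [eq_comm, QuotientGroup.eq]
    apply hscal _ z
    rw [Subgroup.coe_mul, Units.val_mul, hAB, mul_smul_comm]
    congr 1
    rw [← Units.val_mul, ← Subgroup.coe_mul, inv_mul_cancel]
    rfl
  let φ : G →* Γ ⧸ Subgroup.center Γ :=
    { toFun := fun g => QuotientGroup.mk (r g)
      map_one' := by
        rw [QuotientGroup.eq_one_iff]
        apply hscal _ (d 1)
        rw [hr, h1]
      map_mul' := fun g h => by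
        rw [← QuotientGroup.mk_mul]
        apply key _ _ (d (g * h) * (d g * d h * c g h)⁻¹)
        rw [hr, Subgroup.coe_mul, Units.val_mul, hr, hr, smul_mul_smul_comm, hQ, smul_smul, smul_smul]
        congr 1
        have := hd0 g
        have := hd0 h
        have := (c g h).ne_zero
        field_simp }
  have hφsurj : Function.Surjective φ := by
    intro A
    obtain ⟨A, rfl⟩ := QuotientGroup.mk_surjective A
    obtain ⟨g, e, hA⟩ := A.2.2
    refine ⟨g, ?_⟩
    change QuotientGroup.mk (r g) = _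
    apply key _ _ (d g * (e : ℂ)⁻¹)
    rw [hr, hA, smul_smul, mul_assoc, inv_mul_cancel₀ e.ne_zero, mul_one]
  have hφN : N ≤ φ.ker := by
    intro n hn
    rw [MonoidHom.mem_ker]
    change QuotientGroup.mk (r n) = _
    rw [QuotientGroup.eq_one_iff]
    apply hscal _ (d n)
    rw [hr, hN n hn]
  have hidx : (Subgroup.center Γ).index ∣ N.index := by
    have h2 : (Subgroup.center Γ).index = φ.ker.index := by
      rw [Subgroup.index_ker, MonoidHom.range_eq_top.mpr hφsurj, Subgroup.card_top, Subgroup.index_eq_card]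
    rw [h2]
    exact Subgroup.index_dvd_of_le hφN
  refine dvd_trans ?_ hidx
  let ρ : Representation ℂ Γ U := (Units.coeHom (Module.End ℂ U)).comp Γ.subtype
  have hρ : ρ.IsIrreducible := by
    have hnt : Nontrivial (Subrepresentation ρ) := by
      refine ⟨⊥, ⊤, fun h => ?_⟩
      obtain ⟨x, hx⟩ := exists_ne (0 : U)
      have h2 : x ∈ (⊤ : Subrepresentation ρ) := by
        change x ∈ (⊤ : Submodule ℂ U)
        trivial
      rw [← h] at h2
      change x ∈ (⊥ : Submodule ℂ U) at h2
      exact hx (by simpa using h2)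
    refine ⟨fun W => ?_⟩
    rcases hirr W.toSubmodule (fun g w hw => by
      have h2 := W.apply_mem_toSubmodule (r g) hw
      have h3 : ρ (r g) w = d g • Q g w := by
        change ((r g : (Module.End ℂ U)ˣ) : Module.End ℂ U) w = _
        rw [hr]; rfl
      rw [h3] at h2
      have h4 := W.toSubmodule.smul_mem (d g)⁻¹ h2
      rwa [smul_smul, inv_mul_cancel₀ (hd0 g), one_smul] at h4) with h | h
    · left; exact Subrepresentation.toSubmodule_injective h
    · right; exact Subrepresentation.toSubmodule_injective h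
  exact Cfsg.Agent.S0179.result ρ

end Proj

end Cfsg.Agent.H52
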