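import Cfsg.Prelude.Def_SolvableStructure
import Cfsg.Agent.S0071
import Cfsg.Agent.Transfer.NPC
import Cfsg.Agent.H52.Nilp

/-! Minimal non-nilpotent groups (Schmidt groups), via Frobenius' normal p-complement theorem. -/

set_option autoImplicit false

namespace Cfsg.Agent.H52

theorem isNilpotent_of_injective {H G : Type*} [Group H] [Group G] (f : H →* G)
    (hf : Function.Injective f) (hG : Group.IsNilpotent G) : Group.IsNilpotent H := by
  have h1 : Group.IsNilpotent f.range := inferInstance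
  have e : f.range ≃* H := (MonoidHom.ofInjective hf).symm
  exact Group.nilpotent_of_surjective e.toMonoidHom e.surjective

/-- A finite group having a normal `q`-complement for every prime `q` is nilpotent. -/
theorem isNilpotent_of_forall_hasNPC {G : Type*} [Group G] [Finite G]
    (h : ∀ q : ℕ, q.Prime → q ∣ Nat.card G → Cfsg.HasNormalPComplement q G) : Group.IsNilpotent G := by
  classical
  have hp : ∀ q : (Nat.card G).primeFactors, (q : ℕ).Prime := fun q => Nat.prime_of_mem_primeFactors q.2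
  have hN : ∀ q : (Nat.card G).primeFactors, ∃ N : Subgroup G, N.Normal ∧ (Nat.card N).Coprime q ∧ ∃ k, N.index = (q : ℕ) ^ k := by
    intro q
    have : Fact (q : ℕ).Prime := ⟨hp q⟩
    exact Cfsg.Agent.Transfer.hasNPC_iff_exists.mp (h q (hp q) (Nat.dvd_of_mem_primeFactors q.2))
  choose N hNn hNc hNi using hN
  let f : G →* ∀ q : (Nat.card G).primeFactors, G ⧸ N q := MonoidHom.pi (fun q => QuotientGroup.mk' (N q))
  have hf : Function.Injective f := by
    rw [injective_iff_map_eq_one]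
    intro x hx
    have h1 : ∀ q, x ∈ N q := by
      intro q
      have := congrFun hx q
      exact (QuotientGroup.eq_one_iff x).mp this
    rw [← orderOf_eq_one_iff]
    by_contra hne
    obtain ⟨q, hq, hqd⟩ := Nat.exists_prime_and_dvd hne
    have hqG : q ∣ Nat.card G := hqd.trans (orderOf_dvd_natCard x)
    have hqm : q ∈ (Nat.card G).primeFactors := Nat.mem_primeFactors.mpr ⟨hq, hqG, Nat.card_pos.ne'⟩
    have h2 : orderOf x ∣ Nat.card (N ⟨q, hqm⟩) := by
      have := orderOf_dvd_natCard (⟨x, h1 ⟨q, hqm⟩⟩ : N ⟨q, hqm⟩)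
      rwa [Subgroup.orderOf_mk] at this
    have h3 := hNc ⟨q, hqm⟩
    have h4 : q ∣ Nat.card (N ⟨q, hqm⟩) := hqd.trans h2
    have h5 := Nat.eq_one_of_dvd_coprimes h3 h4 (dvd_refl q)
    exact hq.one_lt.ne' h5
  have hnil : ∀ q : (Nat.card G).primeFactors, Group.IsNilpotent (G ⧸ N q) := by
    intro q
    have : Fact (q : ℕ).Prime := ⟨hp q⟩
    obtain ⟨k, hk⟩ := hNi q
    have : IsPGroup q (G ⧸ N q) := IsPGroup.of_card (n := k) (by rw [← hk]; rfl)
    exact this.isNilpotent
  exact isNilpotent_of_injective f hf inferInstance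

/-- Structure of a minimal non-nilpotent group: `G = Q ⟨x⟩`, `Q` a normal `q`-subgroup and `x` a `p`-element
not centralising `Q`. -/
theorem schmidt_structure {G : Type*} [Group G] [Finite G] (hG : Cfsg.IsMinimalNonNilpotent G) :
    ∃ (p q : ℕ) (x : G) (Q : Subgroup G), p.Prime ∧ q.Prime ∧ p ≠ q ∧ Q.Normal ∧ IsPGroup q Q ∧
      (∃ k, orderOf x = p ^ k) ∧ Q ⊔ Subgroup.zpowers x = ⊤ ∧ x ∉ Subgroup.centralizer (Q : Set G) := by
  classical
  -- a prime q without normal q-complement
  obtain ⟨q, hq, hqG, hnpc⟩ : ∃ q : ℕ, q.Prime ∧ q ∣ Nat.card G ∧ ¬ Cfsg.HasNormalPComplement q G := by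
    by_contra hcon
    push Not at hcon
    exact hG.1 (isNilpotent_of_forall_hasNPC hcon)
  have : Fact q.Prime := ⟨hq⟩
  let S : Sylow q G := default
  have hS : ¬ ∀ Q : Subgroup G, Q ≤ (S : Subgroup G) → ∀ g ∈ Subgroup.normalizer (Q : Set G), Nat.Coprime (orderOf g) q → g ∈ Subgroup.centralizer (Q : Set G) := by
    rw [← Cfsg.Agent.S0071.result S]
    rintro ⟨N, hN, hc⟩
    exact hnpc ⟨S, N, hN, hc⟩
  push Not at hS
  obtain ⟨Q, hQS, g, hgN, hgc, hgC⟩ := hS
  -- reduce to prime power order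
  have hred : ∀ n : ℕ, ∀ g : G, orderOf g = n → g ∈ Subgroup.normalizer (Q : Set G) → Nat.Coprime (orderOf g) q →
      g ∉ Subgroup.centralizer (Q : Set G) → ∃ (p : ℕ) (x : G), p.Prime ∧ x ∈ Subgroup.normalizer (Q : Set G) ∧ p ≠ q ∧
        (∃ k, orderOf x = p ^ k) ∧ x ∉ Subgroup.centralizer (Q : Set G) := by
    intro n
    induction n using Nat.strong_induction_on with
    | _ n ih =>
      intro g hn hgN hgc hgC
      have hg1 : orderOf g ≠ 1 := by
        intro h
        rw [orderOf_eq_one_iff] at h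
        apply hgC
        rw [h]; exact Subgroup.one_mem _
      obtain ⟨p, hp, hpg⟩ := Nat.exists_prime_and_dvd hg1
      have : Fact p.Prime := ⟨hp⟩
      obtain ⟨a, b, hab, ⟨k, hk⟩, hb⟩ := Cfsg.Agent.Transfer.exists_pow_decomp p g (orderOf_pos g).ne'
      by_cases ha : g ^ a ∈ Subgroup.centralizer (Q : Set G)
      · have hbC : g ^ b ∉ Subgroup.centralizer (Q : Set G) := by
          intro hbC
          apply hgC
          rw [hab]
          exact Subgroup.mul_mem _ ha hbC
        refine ih (orderOf (g ^ b)) ?_ (g ^ b) rfl (Subgroup.pow_mem _ hgN b) ?_ hbC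
        · rw [← hn]
          apply lt_of_le_of_ne (Nat.le_of_dvd (orderOf_pos g) (orderOf_pow_dvd b))
          intro h
          rw [h] at hb
          exact hp.one_lt.ne' (Nat.eq_one_of_dvd_coprimes hb hpg (dvd_refl p))
        · exact Nat.Coprime.coprime_dvd_left (orderOf_pow_dvd b) hgc
      · refine ⟨p, g ^ a, hp, Subgroup.pow_mem _ hgN a, ?_, ⟨k, hk⟩, ha⟩
        rintro rfl
        exact hp.one_lt.ne' (Nat.eq_one_of_dvd_coprimes hgc hpg (dvd_refl p))
  obtain ⟨p, x, hp, hxN, hpq, ⟨k, hk⟩, hxC⟩ := hred _ g rfl hgN hgc hgC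
  have hQp : IsPGroup q Q := S.2.to_le hQS
  have htop : Q ⊔ Subgroup.zpowers x = ⊤ := by
    by_contra hne
    have hnil := hG.2 _ hne
    apply hxC
    rw [Subgroup.mem_centralizer_iff]
    intro y hy
    obtain ⟨m, hm⟩ := (IsPGroup.iff_orderOf.mp hQp) ⟨y, hy⟩
    rw [Subgroup.orderOf_mk] at hm
    have hyM : y ∈ Q ⊔ Subgroup.zpowers x := (le_sup_left : Q ≤ _) hy
    have hxM : x ∈ Q ⊔ Subgroup.zpowers x := (le_sup_right : Subgroup.zpowers x ≤ _) (Subgroup.mem_zpowers x)
    have := commute_of_isNilpotent_of_coprime hnil (x := ⟨y, hyM⟩) (y := ⟨x, hxM⟩) (by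
      rw [Subgroup.orderOf_mk, Subgroup.orderOf_mk, hm, hk]
      exact Nat.Coprime.pow _ _ ((Nat.coprime_primes hq hp).mpr hpq.symm))
    exact congrArg Subtype.val this
  refine ⟨p, q, x, Q, hp, hq, hpq, ?_, hQp, ⟨k, hk⟩, htop, hxC⟩
  rw [← Subgroup.normalizer_eq_top_iff, eq_top_iff, ← htop]
  exact sup_le Subgroup.le_normalizer (Subgroup.zpowers_le.mpr hxN)

end Cfsg.Agent.H52
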